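import Groth.Agent.S9460
import Groth.Agent.S0537
import Groth.Agent.Lib.LocAcyc24.Integral
import Groth.Agent.S1467
import Mathlib.FieldTheory.IsSepClosed
import Mathlib.RingTheory.Algebraic.Integral

/-!
# Strict henselizations at points made closed by a change of base
-/

universe u

open IsLocalRing TensorProduct

namespace Groth.Agent.SHClosed19

set_option linter.style.haveILetI false
set_option maxHeartbeats 1000000

/-- If the residue field extension at `q` over `p` is algebraic, a strict henselization at `q` is one at a
maximal point of the base change to a strict henselization at `p`. -/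
theorem exists_model (P B : Type u) [CommRing P] [CommRing B] [Algebra P B] [Algebra.FiniteType P B]
    (p : Ideal P) [p.IsPrime] (q : Ideal B) [q.IsPrime] [hlo : q.LiesOver p]
    (halg : letI := (ResidueField.map (Localization.localRingHom p q (algebraMap P B) hlo.over)).toAlgebra
      Algebra.IsAlgebraic (ResidueField (Localization.AtPrime p)) (ResidueField (Localization.AtPrime q)))
    (A : Type u) [CommRing A] [IsLocalRing A] [Algebra (Localization.AtPrime q) A]
    [IsLocalHom (algebraMap (Localization.AtPrime q) A)] [Hensel.IsStrictHenselization (Localization.AtPrime q) A] :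
    ∃ (Rh : Type u) (_ : CommRing Rh) (_ : IsLocalRing Rh) (_ : Algebra (Localization.AtPrime p) Rh)
      (_ : IsLocalHom (algebraMap (Localization.AtPrime p) Rh))
      (_ : Hensel.IsStrictHenselization (Localization.AtPrime p) Rh)
      (S' : Type u) (_ : CommRing S') (_ : Algebra Rh S') (_ : Algebra.FiniteType Rh S')
      (Q : Ideal S') (_ : Q.IsMaximal) (_ : Q.comap (algebraMap Rh S') = maximalIdeal Rh)
      (_ : Algebra (Localization.AtPrime Q) A) (_ : IsLocalHom (algebraMap (Localization.AtPrime Q) A)),
      Hensel.IsStrictHenselization (Localization.AtPrime Q) A := by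
  let φ := Localization.localRingHom p q (algebraMap P B) hlo.over
  obtain ⟨Rh, _, _, _, _, hRh⟩ := Groth.Agent.S0537.result (Localization.AtPrime p)
  haveI := hRh
  let kp := ResidueField (Localization.AtPrime p)
  let kq := ResidueField (Localization.AtPrime q)
  let kR := ResidueField Rh
  let kA := ResidueField A
  letI : Algebra kp kq := (ResidueField.map φ).toAlgebra
  haveI : Algebra.IsAlgebraic kp kq := halg
  letI : Algebra kp kA := ((algebraMap kq kA).comp (algebraMap kp kq)).toAlgebra
  haveI : IsScalarTower kp kq kA := IsScalarTower.of_algebraMap_eq fun _ => rfl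
  haveI hsA := Hensel.IsStrictHenselization.isSepClosure (R := Localization.AtPrime q) (S := A)
  haveI hsR := Hensel.IsStrictHenselization.isSepClosure (R := Localization.AtPrime p) (S := Rh)
  haveI : IsSepClosed kA := IsSepClosure.sep_closed kq
  haveI : Algebra.IsSeparable kp kR := IsSepClosure.separable
  haveI : Algebra.IsSeparable kq kA := IsSepClosure.separable
  haveI : HenselianLocalRing A := Hensel.IsStrictHenselization.henselian (R := Localization.AtPrime q)
  let τ : kR →ₐ[kp] kA := IsSepClosed.lift
  letI : Algebra P A := ((algebraMap (Localization.AtPrime q) A).comp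
    ((algebraMap B (Localization.AtPrime q)).comp (algebraMap P B))).toAlgebra
  letI : Algebra B A := ((algebraMap (Localization.AtPrime q) A).comp (algebraMap B (Localization.AtPrime q))).toAlgebra
  haveI : IsScalarTower B (Localization.AtPrime q) A := IsScalarTower.of_algebraMap_eq fun _ => rfl
  haveI : IsScalarTower P B A := IsScalarTower.of_algebraMap_eq fun _ => rfl
  letI : Algebra P Rh := ((algebraMap (Localization.AtPrime p) Rh).comp (algebraMap P (Localization.AtPrime p))).toAlgebra
  haveI : IsScalarTower P (Localization.AtPrime p) Rh := IsScalarTower.of_algebraMap_eq fun _ => rfl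
  haveI : IsLocalHom ((algebraMap (Localization.AtPrime q) A).comp φ) := RingHom.isLocalHom_comp _ _
  obtain ⟨g, ⟨hg, hgτ⟩, -⟩ := Hensel.IsStrictHenselization.universal (R := Localization.AtPrime p) (S := Rh)
    A ((algebraMap (Localization.AtPrime q) A).comp φ) τ.toRingHom (RingHom.ext fun y => by
      obtain ⟨b, rfl⟩ := residue_surjective y
      exact τ.commutes (residue _ b))
  letI : Algebra Rh A := g.toAlgebra
  haveI : IsScalarTower P Rh A := IsScalarTower.of_algebraMap_eq fun a => by
    show _ = g (algebraMap (Localization.AtPrime p) Rh (algebraMap P (Localization.AtPrime p) a))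
    rw [show g (algebraMap (Localization.AtPrime p) Rh (algebraMap P (Localization.AtPrime p) a)) =
      algebraMap (Localization.AtPrime q) A (φ (algebraMap P (Localization.AtPrime p) a)) from congr($hg _),
      Localization.localRingHom_to_map]
    rfl
  let S' := Rh ⊗[P] B
  let ψ := Algebra.TensorProduct.lift (IsScalarTower.toAlgHom P Rh A) (IsScalarTower.toAlgHom P B A)
    (fun _ _ => Commute.all _ _)
  let Q : Ideal S' := Ideal.comap ψ (maximalIdeal A)
  haveI : Q.IsPrime := Ideal.comap_isPrime _ _
  obtain ⟨E, _, _, _, _, hE⟩ := Groth.Agent.S0537.result (Localization.AtPrime Q)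
  haveI := hE
  obtain ⟨e, -⟩ := Groth.Agent.S9460.result P B p q Rh A E
  -- maximality
  letI : Algebra kR kA := τ.toRingHom.toAlgebra
  haveI : IsScalarTower kp kR kA := IsScalarTower.of_algebraMap_eq fun c => (τ.commutes c).symm
  haveI : Algebra.IsAlgebraic kq kA := inferInstance
  haveI : Algebra.IsAlgebraic kp kA := Algebra.IsAlgebraic.trans kp kq kA
  haveI : Algebra.IsAlgebraic kR kA := Algebra.IsAlgebraic.tower_top (K := kp) kR
  let χ : S' →+* kA := (residue A).comp ψ.toRingHom
  have hχR : ∀ r : Rh, χ (algebraMap Rh S' r) = algebraMap kR kA (residue Rh r) := fun r => by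
    show residue A (ψ (r ⊗ₜ[P] (1 : B))) = τ (residue Rh r)
    rw [show ψ (r ⊗ₜ[P] (1 : B)) = g r * algebraMap B A 1 from Algebra.TensorProduct.lift_tmul _ _ _ _ _,
      map_one, mul_one]
    exact hgτ r
  have hQk : RingHom.ker χ = Q := by
    ext z
    exact residue_eq_zero_iff _
  haveI hQmax : Q.IsMaximal := by
    let C : Subalgebra kR kA :=
      { toSubsemiring := χ.range.toSubsemiring
        algebraMap_mem' := fun c => by
          obtain ⟨r, rfl⟩ := residue_surjective c
          exact ⟨algebraMap Rh S' r, hχR r⟩ }
    have hC : IsField C := Subalgebra.isField_of_algebraic C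
    have hC' : IsField χ.range := hC
    rw [← hQk]
    refine Ideal.Quotient.maximal_of_isField _ ?_
    exact (RingHom.quotientKerEquivRange χ).toMulEquiv.isField hC'
  have hQR : Q.comap (algebraMap Rh S') = maximalIdeal Rh := by
    ext r
    rw [Ideal.mem_comap, ← hQk, RingHom.mem_ker, hχR, map_eq_zero_iff _ (algebraMap kR kA).injective,
      residue_eq_zero_iff]
  letI : Algebra (Localization.AtPrime Q) A :=
    (e.toRingHom.comp (algebraMap (Localization.AtPrime Q) E)).toAlgebra
  haveI : IsLocalHom e.toRingHom := ⟨fun x hx => (isLocalHom_equiv e).map_nonunit x hx⟩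
  haveI : IsLocalHom (algebraMap (Localization.AtPrime Q) A) := RingHom.isLocalHom_comp _ _
  let eA : E ≃ₐ[Localization.AtPrime Q] A := AlgEquiv.ofRingEquiv (f := e) fun _ => rfl
  exact ⟨Rh, inferInstance, inferInstance, inferInstance, inferInstance, hRh, S', inferInstance, inferInstance,
    inferInstance, Q, hQmax, hQR, inferInstance, inferInstance,
    Groth.Agent.S1467.isStrictHenselization_of_algEquiv eA⟩

end Groth.Agent.SHClosed19
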