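import Groth.Agent.Lib.SHClosed19.Basic
import Mathlib.AlgebraicGeometry.Morphisms.FiniteType
import Mathlib.AlgebraicGeometry.Morphisms.QuasiCompact
import Mathlib.RingTheory.AlgebraicIndependent.TranscendenceBasis

/-!
# Transcendence bases at points and the scheme of a model
-/

universe u

open CategoryTheory AlgebraicGeometry IsLocalRing

namespace Groth.Agent.SHClosed19

set_option linter.style.haveILetI false
set_option backward.isDefEq.respectTransparency.types false

/-- A maximal point of an algebra of finite type as a closed point of a scheme. -/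
theorem exists_scheme (R' S' A : Type u) [CommRing R'] [IsLocalRing R'] [CommRing S'] [Algebra R' S']
    [Algebra.FiniteType R' S'] (Q : Ideal S') [Q.IsMaximal] (hQ : Q.comap (algebraMap R' S') = maximalIdeal R')
    [CommRing A] [IsLocalRing A] [Algebra (Localization.AtPrime Q) A]
    [IsLocalHom (algebraMap (Localization.AtPrime Q) A)] [Hensel.IsStrictHenselization (Localization.AtPrime Q) A] :
    ∃ (X' : Scheme.{u}) (f' : X' ⟶ Spec (CommRingCat.of R')) (_ : LocallyOfFiniteType f') (_ : QuasiCompact f')
      (x' : X') (_ : IsClosed ({x'} : Set X'))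
      (_ : f'.base x' = ((closedPoint R' : PrimeSpectrum R') : ↥(Spec (CommRingCat.of R'))))
      (_ : Algebra (X'.presheaf.stalk x') A) (_ : IsLocalHom (algebraMap (X'.presheaf.stalk x') A)),
      Hensel.IsStrictHenselization (X'.presheaf.stalk x') A := by
  let X' := Spec (CommRingCat.of S')
  let f' : X' ⟶ Spec (CommRingCat.of R') := Spec.map (CommRingCat.ofHom (algebraMap R' S'))
  haveI : LocallyOfFiniteType f' := by
    rw [HasRingHomProperty.Spec_iff (P := @LocallyOfFiniteType)]
    exact RingHom.finiteType_algebraMap.2 ‹_›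
  let x' : X' := (⟨Q, inferInstance⟩ : PrimeSpectrum S')
  let e : X'.presheaf.stalk x' ≃+* Localization.AtPrime Q :=
    (Spec.stalkIso (CommRingCat.of S') x').commRingCatIsoToRingEquiv
  letI : Algebra (X'.presheaf.stalk x') A :=
    ((algebraMap (Localization.AtPrime Q) A).comp e.toRingHom).toAlgebra
  haveI : IsLocalHom e.toRingHom := ⟨fun x hx => (isLocalHom_equiv e).map_nonunit x hx⟩
  haveI : IsLocalHom (algebraMap (X'.presheaf.stalk x') A) := RingHom.isLocalHom_comp _ _
  refine ⟨X', f', inferInstance, inferInstance, x', ?_, PrimeSpectrum.ext hQ, inferInstance, inferInstance,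
    LocAcyc24.isStrictHenselization_of_ringEquiv e fun a => rfl⟩
  exact (PrimeSpectrum.isClosed_singleton_iff_isMaximal (R := S') _).2 ‹_›

/-- Elements of a finite type algebra reducing to a transcendence basis of a residue field. -/
theorem exists_lifts (k B : Type u) [Field k] [CommRing B] {κ : Type u} [Field κ] [Algebra k κ]
    (π : B →+* κ) (s : Finset B) (hgen : ∀ b, π b ∈ Algebra.adjoin k (π '' (s : Set B)))
    (hfrac : ∀ z, ∃ b c, π c ≠ 0 ∧ z * π c = π b) :
    ∃ (ι : Type u) (_ : Finite ι) (v : ι → B), AlgebraicIndependent k (fun i => π (v i)) ∧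
      Algebra.IsAlgebraic (Algebra.adjoin k (Set.range fun i => π (v i))) κ := by
  haveI : Algebra.IsAlgebraic (Algebra.adjoin k (π '' (s : Set B))) κ := by
    refine ⟨fun z => ?_⟩
    obtain ⟨b, c, hc, h⟩ := hfrac z
    refine ⟨Polynomial.C ⟨π c, hgen c⟩ * Polynomial.X - Polynomial.C ⟨π b, hgen b⟩, ?_, ?_⟩
    · intro h0
      have h1 := congrArg (fun p => p.coeff 1) h0
      simp at h1
      exact hc (congrArg Subtype.val h1)
    · simp [← h, mul_comm z]
  obtain ⟨t, hts, ht⟩ := exists_isTranscendenceBasis_subset (R := k) (π '' (s : Set B))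
  haveI : Finite t := ((s.finite_toSet.image π).subset hts).to_subtype
  choose v hv hπv using fun i : t => hts i.2
  have hfun : (fun i => π (v i)) = ((↑) : t → κ) := funext hπv
  refine ⟨t, inferInstance, v, hfun ▸ ht.1, ?_⟩
  rw [hfun, Subtype.range_coe_subtype]
  have := ht.isAlgebraic
  rw [Subtype.range_coe_subtype] at this
  exact this

/-- Algebraicity over a subalgebra contained in the image of a field gives algebraicity over that field. -/
theorem isAlgebraic_of_mem_range {k kp κ : Type u} [Field k] [Field kp] [Field κ] [Algebra k κ] [Algebra kp κ]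
    (C : Subalgebra k κ) (h : ∀ a ∈ C, a ∈ (algebraMap kp κ).range) [Algebra.IsAlgebraic C κ] :
    Algebra.IsAlgebraic kp κ := by
  let e : kp ≃+* (algebraMap kp κ).range :=
    RingEquiv.ofBijective (algebraMap kp κ).rangeRestrict
      ⟨fun a b hab => (algebraMap kp κ).injective congr(($hab).1), (algebraMap kp κ).rangeRestrict_surjective⟩
  let j : C →+* kp := e.symm.toRingHom.comp
    (C.toSubsemiring.subtype.codRestrict (algebraMap kp κ).range fun a => h a a.2)
  have hj : ∀ a : C, algebraMap kp κ (j a) = a := fun a => congr(($(e.apply_symm_apply ⟨(a : κ), h a a.2⟩)).1)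
  letI : Algebra C kp := j.toAlgebra
  haveI : IsScalarTower C kp κ := IsScalarTower.of_algebraMap_eq fun a => (hj a).symm
  exact Algebra.IsAlgebraic.extendScalars (R := C) (S := kp) (A := κ) fun a b hab =>
    Subtype.ext (by rw [← hj a, ← hj b]; exact congrArg (algebraMap kp κ) hab)

/-- The residue field at a prime of an algebra of finite type is generated by the images of generators. -/
theorem gen_and_frac {B : Type u} [CommRing B] (q : Ideal B) [q.IsPrime] :
    ∀ z : ResidueField (Localization.AtPrime q), ∃ b c,
      residue _ (algebraMap B (Localization.AtPrime q) c) ≠ 0 ∧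
        z * residue _ (algebraMap B (Localization.AtPrime q) c) =
          residue _ (algebraMap B (Localization.AtPrime q) b) := by
  intro z
  obtain ⟨o, rfl⟩ := residue_surjective z
  obtain ⟨⟨b, c⟩, hbc⟩ := IsLocalization.surj q.primeCompl o
  refine ⟨b, c, fun h => (residue_eq_zero_iff _).1 h (IsLocalization.map_units (Localization.AtPrime q) c), ?_⟩
  rw [← map_mul]
  exact congrArg _ hbc

end Groth.Agent.SHClosed19
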